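import Groth.Agent.RigidMult.Hom
import Groth.Agent.AvgPoint.Lift
import Groth.Agent.FixedSmooth.Props
/-!
Subgroups of multiplicative type which agree, or are conjugate, modulo a nilpotent ideal.
-/

set_option autoImplicit false
set_option backward.isDefEq.respectTransparency false
set_option backward.isDefEq.respectTransparency.types false
set_option linter.style.haveILetI false

universe u

open CategoryTheory CategoryTheory.Limits MonoidalCategory CartesianMonoidalCategory MonObj AlgebraicGeometry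

noncomputable section

namespace Groth.Agent.RigidMult

open FixedSmooth

variable {R : CommRingCat.{u}} {H H' G : Over (Spec R)} [GrpObj H] [GrpObj H'] [GrpObj G]

theorem hom_unique (hH : TrivAct.HasSplitCovers H) (hH' : TrivAct.HasSplitCovers H') (J : Ideal R)
    (hJ : IsNilpotent J) (i : H ⟶ G) (i' : H' ⟶ G) [Mono i'] (x₀ : closedPt J ⟶ G) (f₁ f₂ : H ⟶ H') [IsMonHom f₁]
    [IsMonHom f₂]
    (c₁ : ∀ (X : Over (Spec R)) (k : X ⟶ closedPt J) (h : X ⟶ H),
      (k ≫ x₀) * (h ≫ i) * (k ≫ x₀)⁻¹ = (h ≫ f₁) ≫ i')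
    (c₂ : ∀ (X : Over (Spec R)) (k : X ⟶ closedPt J) (h : X ⟶ H),
      (k ≫ x₀) * (h ≫ i) * (k ≫ x₀)⁻¹ = (h ≫ f₂) ≫ i') : f₁ = f₂ := by
  let q : Spec R ⟶ Spec R := 𝟙 _
  let s : H ⟶ Over.mk q := Over.homMk H.hom (Category.comp_id _)
  have e : snd (Over.mk q) H ≫ f₁ = snd (Over.mk q) H ≫ f₂ :=
    ptHom_unique (q := q) hH hH' J hJ i i' x₀ (fun X t a b => by simp [MonObj.mul_comp])
      (fun X t a b => by simp [MonObj.mul_comp])
      (fun X k t h => by rw [lift_snd_assoc]; exact c₁ X k h) (fun X k t h => by rw [lift_snd_assoc]; exact c₂ X k h)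
  simpa using congrArg (lift s (𝟙 H) ≫ ·) e

/-- Conjugate modulo nilpotents, the two groups are isomorphic compatibly. -/
theorem exists_rigid_iso (hH : TrivAct.HasSplitCovers H) (hH' : TrivAct.HasSplitCovers H') [IsAffineHom H.hom]
    [IsAffineHom H'.hom] (J : Ideal R) (hJ : IsNilpotent J) (i : H ⟶ G) [IsMonHom i] [Mono i] (i' : H' ⟶ G)
    [IsMonHom i'] [Mono i'] (x₀ : closedPt J ⟶ G) (hc : Contain i i' x₀) (hc' : Contain i' i x₀⁻¹) :
    ∃ φ : H ≅ H', IsMonHom φ.hom ∧ ∀ (X : Over (Spec R)) (k : X ⟶ closedPt J) (h : X ⟶ H),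
      (k ≫ x₀) * (h ≫ i) * (k ≫ x₀)⁻¹ = (h ≫ φ.hom) ≫ i' := by
  obtain ⟨φ, hφ, cφ⟩ := exists_rigid_lift hH hH' J hJ i i' x₀ hc
  obtain ⟨ψ, hψ, cψ⟩ := exists_rigid_lift hH' hH J hJ i' i x₀⁻¹ hc'
  haveI := hφ; haveI := hψ
  have h1 : φ ≫ ψ = 𝟙 H := hom_unique hH hH J hJ i i 1 _ _
    (fun X k h => by
      rw [MonObj.comp_one, _root_.one_mul, inv_one, _root_.mul_one, ← Category.assoc h, ← cψ X k (h ≫ φ), ← cφ X k h,
        GrpObj.comp_inv]
      group)
    (fun X k h => by simp)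
  have h2 : ψ ≫ φ = 𝟙 H' := hom_unique hH' hH' J hJ i' i' 1 _ _
    (fun X k h => by
      rw [MonObj.comp_one, _root_.one_mul, inv_one, _root_.mul_one, ← Category.assoc h, ← cφ X k (h ≫ ψ), ← cψ X k h,
        GrpObj.comp_inv]
      group)
    (fun X k h => by simp)
  exact ⟨⟨φ, ψ, h1, h2⟩, hφ, cφ⟩

theorem contain_one_of_map {T : Scheme.{u}} (t : T ⟶ Spec R) (i : H ⟶ G) (i' : H' ⟶ G)
    (f : Red.bc t H ⟶ Red.bc t H') (hf : f ≫ (Over.pullback t).map i' = (Over.pullback t).map i) :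
    Contain i i' (1 : Over.mk t ⟶ G) := fun X' s h => by
  let Y : Over T := Over.mk s.left
  let e : (Over.map t).obj Y ≅ X' := Over.isoMk (Iso.refl _) (by
    show 𝟙 _ ≫ X'.hom = s.left ≫ t
    rw [Category.id_comp]
    exact (Over.w s).symm)
  let h' := (adjEquiv t H' Y).symm (adjEquiv t H Y (e.hom ≫ h) ≫ f)
  refine ⟨e.inv ≫ h', ?_⟩
  rw [MonObj.comp_one, _root_.one_mul, inv_one, _root_.mul_one, ← cancel_epi e.hom, Category.assoc,
    Iso.hom_inv_id_assoc]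
  apply (adjEquiv t G Y).injective
  show adjEquiv t G Y (e.hom ≫ h ≫ i) = adjEquiv t G Y (h' ≫ i')
  rw [← Category.assoc e.hom, adjEquiv_comp (G := G) t i (e.hom ≫ h), adjEquiv_comp (G := G) t i' h',
    MulEquiv.apply_symm_apply, Category.assoc, hf]

/-- Subgroups conjugate modulo nilpotents are conjugate. -/
theorem exists_conjBy (hH : WeilClosedLib.IsMultTypeLoc H) (hH' : WeilClosedLib.IsMultTypeLoc H') [Smooth G.hom]
    (J : Ideal R) (hJ : IsNilpotent J) (i : H ⟶ G) [IsMonHom i] [Mono i] (i' : H' ⟶ G) [IsMonHom i'] [Mono i']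
    (g₀ : closedPt J ⟶ G) (hc : Contain i i' g₀) (hc' : Contain i' i g₀⁻¹) :
    ∃ g : 𝟙_ (Over (Spec R)) ⟶ G, toUnit (closedPt J) ≫ g = g₀ ∧ SGA3x.ConjBy i i' g := by
  haveI := isAffineHom_of_isMultTypeLoc hH
  haveI := isAffineHom_of_isMultTypeLoc hH'
  have s := TrivAct.hasSplitCovers_of_isMultTypeLoc hH
  obtain ⟨φ, hφ, cφ⟩ := exists_rigid_iso s (TrivAct.hasSplitCovers_of_isMultTypeLoc hH') J hJ i i' g₀ hc hc'
  haveI := hφ
  obtain ⟨g, hg, hgc⟩ := AvgPoint.exists_conj_lift s J hJ i (φ.hom ≫ i') g₀ (fun X p h => by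
    rw [← Category.assoc]; exact (cφ X p h).symm)
  exact ⟨g, hg, φ, by have := hgc H (𝟙 H); simpa using this.symm⟩

/-- Subgroups equal modulo a square-zero ideal are conjugate. -/
theorem exists_conjBy_of_eq (hH : WeilClosedLib.IsMultTypeLoc H) (hH' : WeilClosedLib.IsMultTypeLoc H')
    (J : Ideal R) (hJ : J ^ 2 = ⊥) (i : H ⟶ G) [IsMonHom i] [Mono i] (i' : H' ⟶ G) [IsMonHom i'] [Mono i']
    (hc : Contain i i' (1 : closedPt J ⟶ G)) (hc' : Contain i' i (1 : closedPt J ⟶ G)) :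
    ∃ g : 𝟙_ (Over (Spec R)) ⟶ G, toUnit (closedPt J) ≫ g = 1 ∧ SGA3x.ConjBy i i' g := by
  haveI := isAffineHom_of_isMultTypeLoc hH
  haveI := isAffineHom_of_isMultTypeLoc hH'
  have s := TrivAct.hasSplitCovers_of_isMultTypeLoc hH
  obtain ⟨φ, hφ, cφ⟩ := exists_rigid_iso s (TrivAct.hasSplitCovers_of_isMultTypeLoc hH') J ⟨2, hJ⟩ i i'
    (1 : closedPt J ⟶ G) hc (by rw [inv_one]; exact hc')
  haveI := hφ
  obtain ⟨g, hg, hgc⟩ := AvgPoint.exists_conj_of_congr s J hJ i (φ.hom ≫ i') (fun X p h => by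
    rw [← Category.assoc, ← cφ X p h]
    simp)
  exact ⟨g, hg, φ, by have := hgc H (𝟙 H); simpa using this.symm⟩

/-- Central subgroups equal modulo nilpotents are equal. -/
theorem exists_iso_of_central (hH : WeilClosedLib.IsMultTypeLoc H) (hH' : WeilClosedLib.IsMultTypeLoc H')
    (J : Ideal R) (hJ : IsNilpotent J) (i : H ⟶ G) [IsMonHom i] [Mono i] (i' : H' ⟶ G) [IsMonHom i'] [Mono i']
    (hcen : ∀ (X : Over (Spec R)) (g : X ⟶ G) (h : X ⟶ H), g * (h ≫ i) = (h ≫ i) * g)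
    (hc : Contain i i' (1 : closedPt J ⟶ G)) (hc' : Contain i' i (1 : closedPt J ⟶ G)) :
    ∃ φ : H ≅ H', φ.hom ≫ i' = i := by
  haveI := isAffineHom_of_isMultTypeLoc hH
  haveI := isAffineHom_of_isMultTypeLoc hH'
  have s := TrivAct.hasSplitCovers_of_isMultTypeLoc hH
  obtain ⟨φ, hφ, cφ⟩ := exists_rigid_iso s (TrivAct.hasSplitCovers_of_isMultTypeLoc hH') J hJ i i'
    (1 : closedPt J ⟶ G) hc (by rw [inv_one]; exact hc')
  haveI := hφ
  haveI : IsClosedImmersion (Spec.map (CommRingCat.ofHom (Ideal.Quotient.mk J))) :=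
    IsClosedImmersion.spec_of_surjective _ Ideal.Quotient.mk_surjective
  have key := TrivAct.act_trivial (Spec.map (CommRingCat.ofHom (Ideal.Quotient.mk J))) s (conjAct i (φ.hom ≫ i'))
    (conjAct_act _ _) (fun Y x => by simp [lift_conjAct, MonObj.one_comp]) (nilpotent_charts J hJ)
    (fun Y p g x => by
      rw [lift_conjAct, ← Category.assoc, ← cφ Y p g]
      simp only [MonObj.comp_one, inv_one, _root_.one_mul, _root_.mul_one]
      rw [← hcen Y x g, mul_inv_cancel_right]) H (𝟙 H) 1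
  rw [lift_conjAct, Category.id_comp, Category.id_comp, _root_.mul_one] at key
  exact ⟨φ, mul_inv_eq_one.1 key⟩

end Groth.Agent.RigidMult
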