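import Groth.Agent.RigidMult.Pieces
import Groth.Agent.TrivAct.Apps
import Groth.Agent.FixedSmooth.HomLift
/-!
Homomorphisms of groups of multiplicative type lift uniquely along nilpotent thickenings.
-/

set_option autoImplicit false
set_option backward.isDefEq.respectTransparency false
set_option backward.isDefEq.respectTransparency.types false
set_option linter.style.haveILetI false

universe u

open CategoryTheory CategoryTheory.Limits MonoidalCategory CartesianMonoidalCategory MonObj AlgebraicGeometry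

noncomputable section

namespace Groth.Agent.RigidMult

open FixedSmooth

variable {R : CommRingCat.{u}} {H H' G : Over (Spec R)} [GrpObj H] [GrpObj H'] [GrpObj G]

/-- The closed subscheme cut out by `J`, over the base. -/
abbrev closedPt (J : Ideal R) : Over (Spec R) := Over.mk (Spec.map (CommRingCat.ofHom (Ideal.Quotient.mk J)))

theorem closedPt_hom_ext (J : Ideal R) {X : Over (Spec R)} (k k' : X ⟶ closedPt J) : k = k' := by
  haveI : IsClosedImmersion (Spec.map (CommRingCat.ofHom (Ideal.Quotient.mk J))) :=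
    IsClosedImmersion.spec_of_surjective _ Ideal.Quotient.mk_surjective
  apply Over.OverMorphism.ext
  rw [← cancel_mono (Spec.map (CommRingCat.ofHom (Ideal.Quotient.mk J)))]
  exact (Over.w k).trans (Over.w k').symm

theorem nilpotent_charts (J : Ideal R) (hJ : IsNilpotent J) (x : Spec R) :
    ∃ U : (Spec R).affineOpens, x ∈ (U : (Spec R).Opens) ∧
      IsNilpotent ((Spec.map (CommRingCat.ofHom (Ideal.Quotient.mk J))).ker.ideal U) := by
  haveI : IsClosedImmersion (Spec.map (CommRingCat.ofHom (Ideal.Quotient.mk J))) :=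
    IsClosedImmersion.spec_of_surjective _ Ideal.Quotient.mk_surjective
  refine ⟨⟨⊤, isAffineOpen_top _⟩, trivial, ?_⟩
  obtain ⟨n, hn⟩ := hJ
  refine ⟨n, le_bot_iff.1 ?_⟩
  rw [Scheme.Hom.ker_apply]
  refine (Ideal.pow_right_mono (J := J.map (Scheme.ΓSpecIso R).inv.hom) (fun a ha => ?_) n).trans ?_
  · obtain ⟨r, rfl⟩ := (ConcreteCategory.bijective_of_isIso (Scheme.ΓSpecIso R).inv).2 a
    refine Ideal.mem_map_of_mem _ ?_
    have e := congrArg (fun m => m.hom r) (Scheme.ΓSpecIso_inv_naturality (CommRingCat.ofHom (Ideal.Quotient.mk J)))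
    simp only [CommRingCat.hom_comp, RingHom.comp_apply, CommRingCat.hom_ofHom] at e
    rw [RingHom.mem_ker] at ha
    erw [ha] at e
    refine Ideal.Quotient.eq_zero_iff_mem.1
      ((ConcreteCategory.bijective_of_isIso (Scheme.ΓSpecIso (CommRingCat.of (R ⧸ J))).inv).1 ?_)
    rw [map_zero]
    exact e
  · rw [← Ideal.map_pow, hn, Ideal.zero_eq_bot, Ideal.map_bot]

/-- Points of a group of multiplicative type commute. -/
theorem points_comm (hH : TrivAct.HasSplitCovers H) {X : Over (Spec R)} (a b : X ⟶ H) : a * b = b * a := by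
  refine hom_ext_affine _ _ fun B p w => ?_
  rw [MonObj.comp_mul, MonObj.comp_mul]
  generalize w ≫ a = a', w ≫ b = b'
  apply Over.OverMorphism.ext
  obtain ⟨P, hP⟩ := exists_split_cover hH hH p
  refine P.ext _ _ fun k => ?_
  obtain ⟨M, _, -, -, ⟨σ⟩, -⟩ := hP k
  let σ' : Split H (Spec.map (P.map k) ≫ p) M := σ
  let e : Over.mk (𝟙 _ ≫ Spec.map (P.map k) ≫ p) ⟶ Over.mk p :=
    Over.homMk (Spec.map (P.map k)) (by simp)
  obtain ⟨χ, hχ⟩ := (σ'.pt (P.ring k) (𝟙 _)).surjective (e ≫ a')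
  obtain ⟨χ', hχ'⟩ := (σ'.pt (P.ring k) (𝟙 _)).surjective (e ≫ b')
  show (e ≫ (a' * b')).left = (e ≫ (b' * a')).left
  rw [MonObj.comp_mul, MonObj.comp_mul, ← hχ, ← hχ', ← map_mul, ← map_mul, _root_.mul_comm χ χ']

variable {B : CommRingCat.{u}} {q : Spec B ⟶ Spec R}

/-- A homomorphism between the base changes to `Spec B`, as a map from a product. -/
def IsPtHom (θ : Over.mk q ⊗ H ⟶ H') : Prop :=
  ∀ (X : Over (Spec R)) (s : X ⟶ Over.mk q) (a b : X ⟶ H),
    lift s (a * b) ≫ θ = (lift s a ≫ θ) * (lift s b ≫ θ)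

/-- Modulo `J` the homomorphism is conjugation by `x₀`. -/
def IsCongr (J : Ideal R) (i : H ⟶ G) (i' : H' ⟶ G) (x₀ : closedPt J ⟶ G) (θ : Over.mk q ⊗ H ⟶ H') : Prop :=
  ∀ (X : Over (Spec R)) (k : X ⟶ closedPt J) (s : X ⟶ Over.mk q) (h : X ⟶ H),
    (k ≫ x₀) * (h ≫ i) * (k ≫ x₀)⁻¹ = (lift s h ≫ θ) ≫ i'

theorem IsPtHom.one {θ : Over.mk q ⊗ H ⟶ H'} (hθ : IsPtHom θ) {X : Over (Spec R)} (s : X ⟶ Over.mk q) :
    lift s (1 : X ⟶ H) ≫ θ = 1 := by
  have h := hθ X s 1 1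
  rw [_root_.mul_one] at h
  exact left_eq_mul.1 h

theorem IsPtHom.pull {θ : Over.mk q ⊗ H ⟶ H'} (hθ : IsPtHom θ) {B' : CommRingCat.{u}} {q' : Spec B' ⟶ Spec R}
    (e : Over.mk q' ⟶ Over.mk q) : IsPtHom ((e ⊗ₘ 𝟙 H) ≫ θ) := fun X s a b => by
  simp only [← Category.assoc, lift_map, Category.comp_id]
  exact hθ X (s ≫ e) a b

theorem IsCongr.pull {J : Ideal R} {i : H ⟶ G} {i' : H' ⟶ G} {x₀ : closedPt J ⟶ G} {θ : Over.mk q ⊗ H ⟶ H'}
    (hθ : IsCongr J i i' x₀ θ) {B' : CommRingCat.{u}} {q' : Spec B' ⟶ Spec R} (e : Over.mk q' ⟶ Over.mk q) :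
    IsCongr J i i' x₀ ((e ⊗ₘ 𝟙 H) ≫ θ) := fun X k s h => by
  simp only [← Category.assoc, lift_map, Category.comp_id]
  simpa [Category.assoc] using hθ X k (s ≫ e) h

/-- The lift is unique. -/
theorem ptHom_unique (hH : TrivAct.HasSplitCovers H) (hH' : TrivAct.HasSplitCovers H') (J : Ideal R)
    (hJ : IsNilpotent J) (i : H ⟶ G) (i' : H' ⟶ G) [Mono i'] (x₀ : closedPt J ⟶ G)
    {θ₁ θ₂ : Over.mk q ⊗ H ⟶ H'} (h₁ : IsPtHom θ₁) (h₂ : IsPtHom θ₂) (c₁ : IsCongr J i i' x₀ θ₁)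
    (c₂ : IsCongr J i i' x₀ θ₂) : θ₁ = θ₂ := by
  let X : Over (Spec R) := Over.mk q ⊗ H'
  let sP : H ⊗ X ⟶ Over.mk q := snd H X ≫ fst (Over.mk q) H'
  let act : H ⊗ X ⟶ X := lift sP
    ((lift sP (fst H X) ≫ θ₁) * (snd H X ≫ snd (Over.mk q) H') * (lift sP (fst H X) ≫ θ₂)⁻¹)
  have hl : ∀ (Y : Over (Spec R)) (g : Y ⟶ H) (s : Y ⟶ Over.mk q) (x : Y ⟶ H'),
      lift g (lift s x) ≫ act = lift s ((lift s g ≫ θ₁) * x * (lift s g ≫ θ₂)⁻¹) := fun Y g s x => by
    have e : lift g (lift s x) ≫ lift sP (fst H X) = lift s g := by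
      apply CartesianMonoidalCategory.hom_ext <;> simp [sP, X]
    apply CartesianMonoidalCategory.hom_ext
    · simp [act, sP, X]
    · simp only [act, Category.assoc, lift_snd]
      erw [MonObj.comp_mul, MonObj.comp_mul, GrpObj.comp_inv, ← Category.assoc, ← Category.assoc, ← Category.assoc, e,
        lift_snd, lift_snd]
  have hz : ∀ {Y : Over (Spec R)} (z : Y ⟶ X), ∃ (s : Y ⟶ Over.mk q) (x : Y ⟶ H'), z = lift s x := fun z =>
    ⟨z ≫ fst _ _, z ≫ snd _ _, by apply CartesianMonoidalCategory.hom_ext <;> simp [X]⟩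
  haveI : IsClosedImmersion (Spec.map (CommRingCat.ofHom (Ideal.Quotient.mk J))) :=
    IsClosedImmersion.spec_of_surjective _ Ideal.Quotient.mk_surjective
  have key := TrivAct.act_trivial (G := H) (X := X) (Spec.map (CommRingCat.ofHom (Ideal.Quotient.mk J))) hH act
    (fun Y g g' z => by
      obtain ⟨s, x, rfl⟩ := hz z
      rw [hl, hl, hl, h₁ Y s g g', h₂ Y s g g']
      congr 1
      group)
    (fun Y z => by
      obtain ⟨s, x, rfl⟩ := hz z
      rw [hl, h₁.one, h₂.one]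
      simp)
    (nilpotent_charts J hJ)
    (fun Y k g z => by
      obtain ⟨s, x, rfl⟩ := hz z
      rw [hl]
      congr 1
      have e : lift s g ≫ θ₁ = lift s g ≫ θ₂ := by
        rw [← cancel_mono i', ← c₁ Y k s g, ← c₂ Y k s g]
      rw [e, points_comm hH' (lift s g ≫ θ₂) x, mul_inv_cancel_right])
    (Over.mk q ⊗ H) (snd _ _) (lift (fst _ _) 1)
  rw [hl, lift_fst_snd, Category.id_comp, Category.id_comp, _root_.mul_one] at key
  exact mul_inv_eq_one.1 (by simpa using congrArg (· ≫ snd (Over.mk q) H') key)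

/-- The lift exists where both groups split. -/
theorem exists_ptHom_split [IsAffineHom H.hom] (J : Ideal R) (hJ : IsNilpotent J) (i : H ⟶ G) [IsMonHom i] (i' : H' ⟶ G)
    [IsMonHom i'] [Mono i'] (x₀ : closedPt J ⟶ G)
    (hc : Contain i i' x₀) {M M' : Type} [AddCommGroup M] [AddCommGroup M'] (σ : Split H q M) (σ' : Split H' q M') :
    ∃ θ : Over.mk q ⊗ H ⟶ H', IsPtHom θ ∧ IsCongr J i i' x₀ θ := by
  obtain ⟨gam, hgam⟩ := Spec.map_surjective q
  let JB : Ideal B := J.map gam.hom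
  have hJB : IsNilpotent JB := by
    obtain ⟨n, hn⟩ := hJ
    exact ⟨n, by rw [← Ideal.map_pow, hn, Ideal.zero_eq_bot, Ideal.map_bot]; rfl⟩
  let B₀ : CommRingCat.{u} := CommRingCat.of (B ⧸ JB)
  let π : B ⟶ B₀ := CommRingCat.ofHom (Ideal.Quotient.mk JB)
  let BM : CommRingCat.{u} := CommRingCat.of (MonoidAlgebra B₀ (Multiplicative M))
  let s : B₀ ⟶ BM := CommRingCat.ofHom MonoidAlgebra.singleOneRingHom
  let r₀ : CommRingCat.of (R ⧸ J) ⟶ B₀ := CommRingCat.ofHom (Ideal.Quotient.lift J (gam ≫ π).hom fun a ha =>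
    Ideal.Quotient.eq_zero_iff_mem.2 (Ideal.mem_map_of_mem _ ha))
  have hr₀ : CommRingCat.ofHom (Ideal.Quotient.mk J) ≫ r₀ = gam ≫ π := CommRingCat.hom_ext (RingHom.ext fun a => rfl)
  let kf : ∀ {B' : CommRingCat.{u}} (f : B₀ ⟶ B'), Over.mk (Spec.map (π ≫ f) ≫ q) ⟶ closedPt J := fun f =>
    Over.homMk (Spec.map (r₀ ≫ f)) (by
      show Spec.map (r₀ ≫ f) ≫ Spec.map (CommRingCat.ofHom (Ideal.Quotient.mk J)) = Spec.map (π ≫ f) ≫ q
      rw [← hgam, ← Spec.map_comp, ← Spec.map_comp, reassoc_of% hr₀])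
  obtain ⟨h', hh'⟩ := hc _ (kf s) (σ.pt BM (Spec.map (π ≫ s)) (MonoidAlgebra.of B₀ (Multiplicative M)))
  obtain ⟨Ψ, rfl⟩ := (σ'.pt BM (Spec.map (π ≫ s))).surjective h'
  have ptc : ∀ {K : Over (Spec R)} [GrpObj K] {N : Type} [AddCommGroup N] (τ : Split K q N) {B' : CommRingCat.{u}}
      {p p' : Spec B' ⟶ Spec B} (ξ : Multiplicative N →* B') (e : p = p'),
      (τ.pt B' p ξ).left = (τ.pt B' p' ξ).left := by
    rintro K _ N _ τ B' p p' ξ rfl; rfl
  have keyΨ : ∀ (B' : CommRingCat.{u}) (f : B₀ ⟶ B') (χ : Multiplicative M →* B'),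
      (kf f ≫ x₀) * (σ.pt B' (Spec.map (π ≫ f)) χ ≫ i) * (kf f ≫ x₀)⁻¹ =
        σ'.pt B' (Spec.map (π ≫ f)) ((L f.hom χ).toMonoidHom.comp Ψ) ≫ i' := fun B' f χ => by
    let g : BM ⟶ B' := CommRingCat.ofHom (L f.hom χ)
    have hg : s ≫ g = f := CommRingCat.hom_ext (L_comp_single f.hom χ)
    have hχ : g.hom.toMonoidHom.comp (MonoidAlgebra.of B₀ (Multiplicative M)) = χ := L_comp_of f.hom χ
    have ep : Spec.map g ≫ Spec.map (π ≫ s) = Spec.map (π ≫ f) := by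
      rw [← Spec.map_comp, Category.assoc, hg]
    let e : Over.mk (Spec.map (π ≫ f) ≫ q) ⟶ Over.mk (Spec.map (π ≫ s) ≫ q) :=
      Over.homMk (Spec.map g) (by show Spec.map g ≫ _ ≫ q = _; rw [reassoc_of% ep]; rfl)
    have ek : e ≫ kf s = kf f := closedPt_hom_ext J _ _
    have e1 : e ≫ σ.pt BM (Spec.map (π ≫ s)) (MonoidAlgebra.of B₀ (Multiplicative M)) = σ.pt B' (Spec.map (π ≫ f)) χ := by
      apply Over.OverMorphism.ext
      rw [← ptc σ χ ep, ← hχ, ← σ.nat]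
      rfl
    have e2 : e ≫ σ'.pt BM (Spec.map (π ≫ s)) Ψ = σ'.pt B' (Spec.map (π ≫ f)) ((L f.hom χ).toMonoidHom.comp Ψ) := by
      apply Over.OverMorphism.ext
      rw [← ptc σ' _ ep, show ((L f.hom χ).toMonoidHom.comp Ψ) = g.hom.toMonoidHom.comp Ψ from rfl, ← σ'.nat]
      rfl
    have := congrArg (fun z => e ≫ z) hh'
    simp only [MonObj.comp_mul, GrpObj.comp_inv, ← Category.assoc, ek, e1, e2] at this
    exact this
  have hΨ : ∀ m, IsGL (Ψ m) := fun m {B'} _ f χ χ' => by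
    let fc : B₀ ⟶ CommRingCat.of B' := CommRingCat.ofHom f
    have e1 := keyΨ _ fc χ
    have e2 := keyΨ _ fc χ'
    have e12 := keyΨ _ fc (χ * χ')
    have e0 := keyΨ _ fc 1
    constructor
    · have : σ'.pt _ (Spec.map (π ≫ fc)) ((L fc.hom (χ * χ')).toMonoidHom.comp Ψ) =
          σ'.pt _ (Spec.map (π ≫ fc)) ((L fc.hom χ).toMonoidHom.comp Ψ * (L fc.hom χ').toMonoidHom.comp Ψ) := by
        rw [← cancel_mono i', map_mul (σ'.pt _ (Spec.map (π ≫ fc))), MonObj.mul_comp, ← e1, ← e2, ← e12, map_mul,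
          MonObj.mul_comp]
        group
      exact DFunLike.congr_fun ((σ'.pt _ _).injective this) m
    · have : σ'.pt _ (Spec.map (π ≫ fc)) ((L fc.hom 1).toMonoidHom.comp Ψ) = σ'.pt _ (Spec.map (π ≫ fc)) 1 := by
        rw [← cancel_mono i', ← e0, map_one, map_one, MonObj.one_comp, MonObj.one_comp]
        group
      exact DFunLike.congr_fun ((σ'.pt _ _).injective this) m
  obtain ⟨Φ, hΦ, hΦΨ⟩ := exists_GL_hom_lift hJB Ψ hΨ
  -- the universal point
  let Q : Over (Spec R) := Over.mk q ⊗ H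
  haveI : IsAffine Q.left := inferInstanceAs (IsAffine (pullback q H.hom))
  let C : CommRingCat.{u} := Γ(Q.left, ⊤)
  obtain ⟨f₀, hf₀⟩ := Spec.map_surjective (Q.left.isoSpec.inv ≫ (fst (Over.mk q) H).left)
  have hfw : (fst (Over.mk q) H).left ≫ q = Q.hom := Over.w (fst (Over.mk q) H)
  let c : Over.mk (Spec.map f₀ ≫ q) ⟶ Q := Over.homMk Q.left.isoSpec.inv (by
    show Q.left.isoSpec.inv ≫ Q.hom = Spec.map f₀ ≫ q
    rw [hf₀, Category.assoc, hfw])
  let c' : Q ⟶ Over.mk (Spec.map f₀ ≫ q) := Over.homMk Q.left.isoSpec.hom (by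
    show Q.left.isoSpec.hom ≫ Spec.map f₀ ≫ q = Q.hom
    rw [hf₀, Category.assoc, Iso.hom_inv_id_assoc, hfw])
  have hcc : c' ≫ c = 𝟙 Q := Over.OverMorphism.ext (Iso.hom_inv_id _)
  obtain ⟨χ₀, hχ₀⟩ := (σ.pt C (Spec.map f₀)).surjective (c ≫ snd (Over.mk q) H)
  let θ : Q ⟶ H' := c' ≫ σ'.pt C (Spec.map f₀) ((L f₀.hom χ₀).toMonoidHom.comp Φ)
  have key : ∀ (B' : CommRingCat.{u}) (f : B ⟶ B') (χ : Multiplicative M →* B'),
      lift (Over.homMk (Spec.map f) rfl : Over.mk (Spec.map f ≫ q) ⟶ Over.mk q) (σ.pt B' (Spec.map f) χ) ≫ θ =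
        σ'.pt B' (Spec.map f) ((L f.hom χ).toMonoidHom.comp Φ) := fun B' f χ => by
    let ξ : Over.mk (Spec.map f ≫ q) ⟶ Q :=
      lift (Over.homMk (Spec.map f) rfl : Over.mk (Spec.map f ≫ q) ⟶ Over.mk q) (σ.pt B' (Spec.map f) χ)
    obtain ⟨g, hg⟩ := Spec.map_surjective (ξ.left ≫ Q.left.isoSpec.hom)
    have hfg : f₀ ≫ g = f := Spec.map_injective (by
      rw [Spec.map_comp, hg, hf₀, Category.assoc, Iso.hom_inv_id_assoc]
      exact congrArg CommaMorphism.left (lift_fst (Over.homMk (Spec.map f) rfl : Over.mk (Spec.map f ≫ q) ⟶ Over.mk q)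
        (σ.pt B' (Spec.map f) χ)))
    have ep : Spec.map g ≫ Spec.map f₀ = Spec.map f := by rw [← Spec.map_comp, hfg]
    let e : Over.mk (Spec.map f ≫ q) ⟶ Over.mk (Spec.map f₀ ≫ q) :=
      Over.homMk (Spec.map g) (by show Spec.map g ≫ _ ≫ q = _; rw [reassoc_of% ep]; rfl)
    have hξ : ξ ≫ c' = e := Over.OverMorphism.ext hg.symm
    have hχ : g.hom.toMonoidHom.comp χ₀ = χ := by
      refine (σ.pt B' (Spec.map f)).injective ?_
      have h1 : e ≫ c ≫ snd (Over.mk q) H = σ.pt B' (Spec.map f) χ := by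
        rw [← hξ, Category.assoc, ← Category.assoc c', hcc, Category.id_comp]
        exact lift_snd _ _
      rw [← h1, ← hχ₀]
      apply Over.OverMorphism.ext
      rw [← ptc σ _ ep, ← σ.nat]
      rfl
    show ξ ≫ c' ≫ _ = _
    rw [← Category.assoc, hξ]
    apply Over.OverMorphism.ext
    rw [← ptc σ' _ ep]
    refine Eq.trans (show _ = Spec.map g ≫ (σ'.pt C (Spec.map f₀) ((L f₀.hom χ₀).toMonoidHom.comp Φ)).left from rfl) ?_
    have := congrArg CommaMorphism.left (σ'.nat C B' (Spec.map f₀) g ((L f₀.hom χ₀).toMonoidHom.comp Φ))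
    refine Eq.trans this ?_
    congr 2
    ext m
    show g.hom (L f₀.hom χ₀ (Φ m)) = L f.hom χ (Φ m)
    rw [← hχ, ← hfg]
    exact RingHom.congr_fun (comp_L g.hom f₀.hom χ₀) (Φ m)
  refine ⟨θ, fun X t a b => ?_, fun X k t h => ?_⟩
  · refine hom_ext_affine _ _ fun B' p w => ?_
    simp only [← Category.assoc, MonObj.comp_mul, comp_lift]
    generalize w ≫ t = t', w ≫ a = a', w ≫ b = b'
    clear w
    obtain ⟨f, hf⟩ := Spec.map_surjective t'.left
    have hp : Spec.map f ≫ q = p := by rw [hf]; exact Over.w t'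
    subst hp
    have et : t' = Over.homMk (Spec.map f) rfl := Over.OverMorphism.ext hf.symm
    subst et
    obtain ⟨χ, rfl⟩ := (σ.pt B' (Spec.map f)).surjective a'
    obtain ⟨χ', rfl⟩ := (σ.pt B' (Spec.map f)).surjective b'
    rw [← map_mul, key, key, key, ← map_mul]
    congr 1
    ext m
    exact (hΦ m f.hom χ χ').1
  · refine hom_ext_affine _ _ fun B' p w => ?_
    simp only [← Category.assoc, MonObj.comp_mul, GrpObj.comp_inv, comp_lift]
    generalize w ≫ t = t', w ≫ h = h', w ≫ k = k'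
    clear w
    obtain ⟨f, hf⟩ := Spec.map_surjective t'.left
    have hp : Spec.map f ≫ q = p := by rw [hf]; exact Over.w t'
    subst hp
    have et : t' = Over.homMk (Spec.map f) rfl := Over.OverMorphism.ext hf.symm
    subst et
    obtain ⟨χ, rfl⟩ := (σ.pt B' (Spec.map f)).surjective h'
    rw [key]
    obtain ⟨r, hr⟩ := Spec.map_surjective k'.left
    have hgamr : CommRingCat.ofHom (Ideal.Quotient.mk J) ≫ r = gam ≫ f := Spec.map_injective (by
      rw [Spec.map_comp, Spec.map_comp, hr, hgam]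
      exact Over.w k')
    have hkill : JB ≤ RingHom.ker f.hom := Ideal.map_le_iff_le_comap.2 fun a ha => by
      show f.hom (gam.hom a) = 0
      have := congrArg (fun m => m.hom a) hgamr
      simp only [CommRingCat.hom_comp, RingHom.comp_apply, CommRingCat.hom_ofHom] at this
      rw [← this, Ideal.Quotient.eq_zero_iff_mem.2 ha, map_zero]
    obtain ⟨f', rfl⟩ : ∃ f' : B₀ ⟶ B', π ≫ f' = f :=
      ⟨CommRingCat.ofHom (Ideal.Quotient.lift JB f.hom fun a ha => RingHom.mem_ker.1 (hkill ha)),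
        CommRingCat.hom_ext (RingHom.ext fun a => rfl)⟩
    rw [closedPt_hom_ext J k' (kf f'), keyΨ]
    congr 2
    ext m
    show L f'.hom χ (Ψ m) = L (f'.hom.comp π.hom) χ (Φ m)
    rw [L_map, ← hΦΨ]
    rfl

/-- Conjugation modulo nilpotents into a group of multiplicative type lifts to a homomorphism. -/
theorem exists_rigid_lift (hH : TrivAct.HasSplitCovers H) (hH' : TrivAct.HasSplitCovers H') [IsAffineHom H.hom]
    (J : Ideal R) (hJ : IsNilpotent J) (i : H ⟶ G) [IsMonHom i] (i' : H' ⟶ G) [IsMonHom i'] [Mono i']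
    (x₀ : closedPt J ⟶ G) (hc : Contain i i' x₀) :
    ∃ φ : H ⟶ H', IsMonHom φ ∧ ∀ (X : Over (Spec R)) (k : X ⟶ closedPt J) (h : X ⟶ H),
      (k ≫ x₀) * (h ≫ i) * (k ≫ x₀)⁻¹ = (h ≫ φ) ≫ i' := by
  haveI : IsAffine H.left := isAffine_of_isAffineHom H.hom
  let C : CommRingCat.{u} := Γ(H.left, ⊤)
  let q₀ : Spec C ⟶ Spec R := H.left.isoSpec.inv ≫ H.hom
  let h₀ : Over.mk q₀ ⟶ H := Over.homMk H.left.isoSpec.inv rfl
  let h₀' : H ⟶ Over.mk q₀ := Over.homMk H.left.isoSpec.hom (by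
    show H.left.isoSpec.hom ≫ H.left.isoSpec.inv ≫ H.hom = H.hom
    rw [Iso.hom_inv_id_assoc])
  obtain ⟨P, hP⟩ := exists_split_cover hH hH' q₀
  have hθ : ∀ k, ∃ θ : Over.mk (Spec.map (P.map k) ≫ q₀) ⊗ H ⟶ H', IsPtHom θ ∧ IsCongr J i i' x₀ θ := fun k => by
    obtain ⟨M, _, M', _, ⟨σ⟩, ⟨σ'⟩⟩ := hP k
    exact exists_ptHom_split J hJ i i' x₀ hc σ σ'
  choose θ hθ₁ hθ₂ using hθ
  let rp : ∀ k, Over.mk (Spec.map (P.map k) ≫ q₀) ⟶ Over.mk q₀ := fun k => Over.homMk (Spec.map (P.map k)) rfl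
  let fk : ∀ k, Over.mk (Spec.map (P.map k) ≫ q₀) ⟶ H' := fun k => lift (𝟙 _) (rp k ≫ h₀) ≫ θ k
  have agree : ∀ {B' : CommRingCat.{u}} {q' : Spec B' ⟶ Spec R} (θ' : Over.mk q' ⊗ H ⟶ H'), IsPtHom θ' →
      IsCongr J i i' x₀ θ' → ∀ (k : P.κ) (e : Over.mk q' ⟶ Over.mk (Spec.map (P.map k) ≫ q₀)),
        e ≫ fk k = lift (𝟙 _) (e ≫ rp k ≫ h₀) ≫ θ' := fun {B' q'} θ' h' c' k e => by
    rw [ptHom_unique hH hH' J hJ i i' x₀ h' ((hθ₁ k).pull e) c' ((hθ₂ k).pull e)]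
    simp only [fk, ← Category.assoc, comp_lift, lift_map, Category.comp_id, Category.id_comp]
  obtain ⟨F, hF⟩ := P.desc (fun k => (fk k).left) (fun k l B' a b hab => by
    let q' : Spec B' ⟶ Spec R := Spec.map a ≫ Spec.map (P.map k) ≫ q₀
    let ea : Over.mk q' ⟶ Over.mk (Spec.map (P.map k) ≫ q₀) := Over.homMk (Spec.map a) rfl
    let eb : Over.mk q' ⟶ Over.mk (Spec.map (P.map l) ≫ q₀) := Over.homMk (Spec.map b) (by
      show Spec.map b ≫ Spec.map (P.map l) ≫ q₀ = Spec.map a ≫ Spec.map (P.map k) ≫ q₀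
      rw [← Category.assoc, ← Category.assoc (Spec.map a), ← Spec.map_comp, ← Spec.map_comp, hab])
    have e1 : eb ≫ rp l ≫ h₀ = ea ≫ rp k ≫ h₀ := by
      apply Over.OverMorphism.ext
      show Spec.map b ≫ Spec.map (P.map l) ≫ h₀.left = Spec.map a ≫ Spec.map (P.map k) ≫ h₀.left
      rw [← Category.assoc, ← Category.assoc (Spec.map a), ← Spec.map_comp, ← Spec.map_comp, hab]
    have := agree ((ea ⊗ₘ 𝟙 H) ≫ θ k) ((hθ₁ k).pull ea) ((hθ₂ k).pull ea) l eb
    rw [e1, ← agree ((ea ⊗ₘ 𝟙 H) ≫ θ k) ((hθ₁ k).pull ea) ((hθ₂ k).pull ea) k ea] at this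
    exact congrArg CommaMorphism.left this.symm)
  have hFw : F ≫ H'.hom = q₀ := P.ext _ _ fun k => by rw [reassoc_of% hF]; exact Over.w (fk k)
  let φ : H ⟶ H' := h₀' ≫ Over.homMk F hFw
  have key : ∀ {B : CommRingCat.{u}} {q : Spec B ⟶ Spec R} (θ' : Over.mk q ⊗ H ⟶ H'), IsPtHom θ' →
      IsCongr J i i' x₀ θ' → ∀ h : Over.mk q ⟶ H, h ≫ φ = lift (𝟙 _) h ≫ θ' := fun {B q} θ' h' c' h => by
    apply Over.OverMorphism.ext
    let g : Spec B ⟶ Spec C := (h ≫ h₀').left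
    haveI : Epi (pullback.snd P.π g) := Flat.epi_of_flat_of_surjective _
    rw [← cancel_epi (pullback.snd P.π g)]
    refine Scheme.hom_ext_of_forall _ _ fun z => ?_
    obtain ⟨k, O, c, hzO, ec⟩ := P.exists_chart (pullback.fst P.π g) z
    obtain ⟨D, hD, hzD, hle⟩ := exists_isAffineOpen_mem_and_subset (x := z) (U := O) hzO
    refine ⟨D, hzD, eq_on_open hD ?_⟩
    let u : Spec Γ(pullback P.π g, D) ⟶ Spec (P.ring k) := hD.isoSpec.inv ≫ (pullback P.π g).homOfLE hle ≫ c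
    let v : Spec Γ(pullback P.π g, D) ⟶ Spec B := hD.fromSpec ≫ pullback.snd P.π g
    have hu : u ≫ Spec.map (P.map k) = v ≫ g := by
      have e1 : hD.fromSpec ≫ pullback.fst P.π g = u ≫ Sigma.ι (fun i => Spec (P.ring i)) k := by
        rw [Category.assoc, Category.assoc, ← ec, Scheme.homOfLE_ι_assoc, ← Category.assoc, hD.isoSpec_inv_ι]
      have e2 := congrArg (hD.fromSpec ≫ ·) (pullback.condition (f := P.π) (g := g))
      simp only [reassoc_of% e1, Sigma.ι_desc] at e2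
      simpa [v] using e2
    let ev : Over.mk (v ≫ q) ⟶ Over.mk q := Over.homMk v rfl
    have hgq : g ≫ q₀ = q := Over.w (h ≫ h₀')
    let eu : Over.mk (v ≫ q) ⟶ Over.mk (Spec.map (P.map k) ≫ q₀) := Over.homMk u (by
      show u ≫ Spec.map (P.map k) ≫ q₀ = v ≫ q
      rw [reassoc_of% hu, hgq])
    have e3 : eu ≫ rp k ≫ h₀ = ev ≫ h := by
      have : eu ≫ rp k = ev ≫ h ≫ h₀' := Over.OverMorphism.ext hu
      rw [← Category.assoc eu, this, Category.assoc ev, Category.assoc h]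
      have : h₀' ≫ h₀ = 𝟙 H := Over.OverMorphism.ext (Iso.hom_inv_id _)
      rw [this, Category.comp_id]
    have a1 : eu ≫ fk k = lift ev (ev ≫ h) ≫ θ' :=
      (agree ((ev ⊗ₘ 𝟙 H) ≫ θ') (h'.pull ev) (c'.pull ev) k eu).trans (by
        rw [e3, ← Category.assoc (lift _ _), lift_map, Category.id_comp, Category.comp_id])
    have a2 : v ≫ (lift (𝟙 _) h ≫ θ').left = u ≫ (fk k).left := by
      have : ev ≫ lift (𝟙 _) h ≫ θ' = eu ≫ fk k := by
        rw [a1, ← Category.assoc, comp_lift, Category.comp_id]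
      exact congrArg CommaMorphism.left this
    have a3 : v ≫ (h ≫ φ).left = u ≫ (fk k).left := by
      show v ≫ h.left ≫ H.left.isoSpec.hom ≫ F = _
      rw [← hF k, reassoc_of% hu]
      rfl
    show hD.fromSpec ≫ pullback.snd P.π g ≫ _ = hD.fromSpec ≫ pullback.snd P.π g ≫ _
    simpa [v] using a3.trans a2.symm
  have onAffine : ∀ {Y : Over (Spec R)} {B : CommRingCat.{u}} (p : Spec B ⟶ Spec R) {f₁ f₂ : Over.mk p ⟶ Y},
      (∀ {B' : CommRingCat.{u}} {q : Spec B' ⟶ Spec R} (θ' : Over.mk q ⊗ H ⟶ H'), IsPtHom θ' →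
        IsCongr J i i' x₀ θ' → ∀ (w : Over.mk q ⟶ Over.mk p), w ≫ f₁ = w ≫ f₂) → f₁ = f₂ :=
    fun {Y B} p {f₁ f₂} hyp => by
    apply Over.OverMorphism.ext
    obtain ⟨P', hP'⟩ := exists_split_cover hH hH' p
    refine P'.ext _ _ fun k => ?_
    obtain ⟨M, _, M', _, ⟨σ⟩, ⟨σ'⟩⟩ := hP' k
    obtain ⟨θ', h', c'⟩ := exists_ptHom_split J hJ i i' x₀ hc σ σ'
    exact congrArg CommaMorphism.left (hyp θ' h' c' (Over.homMk (Spec.map (P'.map k)) rfl))
  have hmul : ∀ {X : Over (Spec R)} (a b : X ⟶ H), (a * b) ≫ φ = (a ≫ φ) * (b ≫ φ) := fun {X} a b => by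
    refine hom_ext_affine _ _ fun B p w => onAffine p fun θ' h' c' e => ?_
    simp only [← Category.assoc, MonObj.comp_mul]
    rw [key θ' h' c', key θ' h' c', key θ' h' c', h' _ _ _ _]
  have hone : ∀ {X : Over (Spec R)}, (1 : X ⟶ H) ≫ φ = 1 := fun {X} => by
    have h := hmul (1 : X ⟶ H) 1
    rw [_root_.mul_one] at h
    exact left_eq_mul.1 h
  refine ⟨φ, ⟨?_, ?_⟩, fun X k h => ?_⟩
  · have := hone (X := 𝟙_ (Over (Spec R)))
    simp only [Hom.one_def, toUnit_unit, Category.id_comp] at this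
    exact this
  · have := hmul (fst H H) (snd H H)
    rw [Hom.mul_def, lift_fst_snd, Category.id_comp] at this
    rw [this, Hom.mul_def]
    congr 1
  · refine hom_ext_affine _ _ fun B p w => onAffine p fun θ' h' c' e => ?_
    simp only [← Category.assoc, MonObj.comp_mul, GrpObj.comp_inv]
    rw [key θ' h' c', c' _ ((e ≫ w) ≫ k) (𝟙 _)]

end Groth.Agent.RigidMult
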