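import Groth.Agent.TrivAct.Descent
/-!
Finite flat affine covers of affine schemes on which two groups split; gluing of morphisms along them.
-/

set_option autoImplicit false
set_option backward.isDefEq.respectTransparency false
set_option backward.isDefEq.respectTransparency.types false
set_option linter.style.haveILetI false

universe u

open CategoryTheory CategoryTheory.Limits MonoidalCategory CartesianMonoidalCategory MonObj AlgebraicGeometry

noncomputable section

namespace Groth.Agent.RigidMult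

open FixedSmooth

theorem eq_on_open {Z Y : Scheme.{u}} {D : Z.Opens} (hD : IsAffineOpen D) {f g : Z ⟶ Y}
    (h : hD.fromSpec ≫ f = hD.fromSpec ≫ g) : D.ι ≫ f = D.ι ≫ g := by
  rw [← cancel_epi hD.isoSpec.inv]
  simpa only [← Category.assoc, hD.isoSpec_inv_ι] using h

/-- A finite jointly surjective family of flat ring maps. -/
structure Cover (B : CommRingCat.{u}) where
  κ : Type u
  [fin : Finite κ]
  ring : κ → CommRingCat.{u}
  map : ∀ i, B ⟶ ring i
  flat : ∀ i, Flat (Spec.map (map i))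
  surj : ∀ t : Spec B, ∃ (i : κ) (p : Spec (ring i)), Spec.map (map i) p = t

attribute [instance] Cover.fin Cover.flat

variable {B : CommRingCat.{u}} (P : Cover B)

abbrev Cover.total : Scheme.{u} := ∐ fun i => Spec (P.ring i)

abbrev Cover.π : P.total ⟶ Spec B := Sigma.desc fun i => Spec.map (P.map i)

instance : Flat P.π := by
  haveI : IsZariskiLocalAtSource (@Flat.{u}) :=
    HasRingHomProperty.instIsZariskiLocalAtSource.{u} (Q := RingHom.Flat)
  exact IsZariskiLocalAtSource.sigmaDesc fun i => inferInstance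

instance : Surjective P.π := ⟨fun t => by
  obtain ⟨i, p, hp⟩ := P.surj t
  refine ⟨Sigma.ι (fun i => Spec (P.ring i)) i p, ?_⟩
  erw [← Scheme.Hom.comp_apply, Sigma.ι_desc]
  exact hp⟩

theorem Cover.exists_chart {Z : Scheme.{u}} (a : Z ⟶ P.total) (z : Z) :
    ∃ (i : P.κ) (O : Z.Opens) (c : O.toScheme ⟶ Spec (P.ring i)), z ∈ O ∧
      O.ι ≫ a = c ≫ Sigma.ι (fun i => Spec (P.ring i)) i := by
  obtain ⟨i, hi⟩ := (sigmaOpenCover fun i => Spec (P.ring i)).exists_eq (a z)
  let O := a ⁻¹ᵁ (Sigma.ι (fun i => Spec (P.ring i)) i).opensRange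
  refine ⟨i, O, IsOpenImmersion.lift (Sigma.ι (fun i => Spec (P.ring i)) i) (O.ι ≫ a) ?_, hi,
    (IsOpenImmersion.lift_fac _ _ _).symm⟩
  rintro _ ⟨p, rfl⟩
  rw [Scheme.Hom.comp_apply]
  exact p.2

/-- Maps out of `Spec B` are determined on a cover. -/
theorem Cover.ext {Y : Scheme.{u}} (f g : Spec B ⟶ Y)
    (h : ∀ i, Spec.map (P.map i) ≫ f = Spec.map (P.map i) ≫ g) : f = g := by
  haveI : Epi P.π := Flat.epi_of_flat_of_surjective _
  rw [← cancel_epi P.π]
  exact Sigma.hom_ext _ _ fun i => by rw [Sigma.ι_desc_assoc, Sigma.ι_desc_assoc]; exact h i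

/-- Compatible maps on a cover glue. -/
theorem Cover.desc {Y : Scheme.{u}} (f : ∀ i, Spec (P.ring i) ⟶ Y)
    (h : ∀ i j (B' : CommRingCat.{u}) (a : P.ring i ⟶ B') (b : P.ring j ⟶ B'),
      P.map i ≫ a = P.map j ≫ b → Spec.map a ≫ f i = Spec.map b ≫ f j) :
    ∃ g : Spec B ⟶ Y, ∀ i, Spec.map (P.map i) ≫ g = f i := by
  let F : P.total ⟶ Y := Sigma.desc f
  haveI : IsAffine P.total := inferInstanceAs (IsAffine (∐ fun i => Spec (P.ring i)))
  haveI : IsRegularEpi P.π := isRegularEpi_of_flat_of_surjective_of_isAffine P.π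
  have hc : ∀ {Z : Scheme.{u}} (z₁ z₂ : Z ⟶ P.total), z₁ ≫ P.π = z₂ ≫ P.π → z₁ ≫ F = z₂ ≫ F := fun {Z} z₁ z₂ he => by
    refine Scheme.hom_ext_of_forall _ _ fun z => ?_
    obtain ⟨i, O₁, c₁, hz₁, e₁⟩ := P.exists_chart z₁ z
    obtain ⟨j, O₂, c₂, hz₂, e₂⟩ := P.exists_chart z₂ z
    obtain ⟨D, hD, hzD, hle⟩ := exists_isAffineOpen_mem_and_subset (x := z) (U := O₁ ⊓ O₂) ⟨hz₁, hz₂⟩
    refine ⟨D, hzD, eq_on_open hD ?_⟩
    have f₁ : hD.fromSpec ≫ z₁ = (hD.isoSpec.inv ≫ Z.homOfLE (hle.trans inf_le_left) ≫ c₁) ≫ Sigma.ι (fun i => Spec (P.ring i)) i := by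
      rw [Category.assoc, Category.assoc, ← e₁, Scheme.homOfLE_ι_assoc, ← Category.assoc, hD.isoSpec_inv_ι]
    have f₂ : hD.fromSpec ≫ z₂ = (hD.isoSpec.inv ≫ Z.homOfLE (hle.trans inf_le_right) ≫ c₂) ≫ Sigma.ι (fun i => Spec (P.ring i)) j := by
      rw [Category.assoc, Category.assoc, ← e₂, Scheme.homOfLE_ι_assoc, ← Category.assoc, hD.isoSpec_inv_ι]
    obtain ⟨a, ha⟩ := Spec.map_surjective (hD.isoSpec.inv ≫ Z.homOfLE (hle.trans inf_le_left) ≫ c₁)
    obtain ⟨b, hb⟩ := Spec.map_surjective (hD.isoSpec.inv ≫ Z.homOfLE (hle.trans inf_le_right) ≫ c₂)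
    rw [← ha] at f₁
    rw [← hb] at f₂
    rw [reassoc_of% f₁, reassoc_of% f₂, Sigma.ι_desc, Sigma.ι_desc]
    refine h i j _ a b (Spec.map_injective ?_)
    have := congrArg (hD.fromSpec ≫ ·) he
    simp only [reassoc_of% f₁, reassoc_of% f₂, Sigma.ι_desc] at this
    simpa only [Spec.map_comp] using this
  refine ⟨EffectiveEpi.desc P.π F (fun g₁ g₂ he => hc g₁ g₂ he), fun i => ?_⟩
  have := congrArg (Sigma.ι (fun i => Spec (P.ring i)) i ≫ ·) (EffectiveEpi.fac P.π F (fun g₁ g₂ he => hc g₁ g₂ he))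
  simp only [Sigma.ι_desc_assoc, F, Sigma.ι_desc] at this
  exact this

variable {R : CommRingCat.{u}}

/-- A cover on which both groups split. -/
theorem exists_split_cover {H H' : Over (Spec R)} [GrpObj H] [GrpObj H'] (hH : TrivAct.HasSplitCovers H)
    (hH' : TrivAct.HasSplitCovers H') (q : Spec B ⟶ Spec R) :
    ∃ P : Cover B, ∀ i, ∃ (M : Type) (_ : AddCommGroup M) (M' : Type) (_ : AddCommGroup M'),
      Nonempty (Split H (Spec.map (P.map i) ≫ q) M) ∧ Nonempty (Split H' (Spec.map (P.map i) ≫ q) M') := by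
  obtain ⟨κ₁, _, A, hA, gA, hgA, hsA, hσ⟩ := hH ⊤ (isAffineOpen_top _)
  obtain ⟨κ₂, _, A', hA', gA', hgA', hsA', hσ'⟩ := hH' ⊤ (isAffineOpen_top _)
  haveI := hA; haveI := hgA; haveI := hA'; haveI := hgA'
  let a : κ₁ × κ₂ → Scheme.{u} := fun k => pullback (gA k.1 ≫ (⊤ : (Spec R).Opens).ι) (gA' k.2 ≫ (⊤ : (Spec R).Opens).ι)
  let α : ∀ k, a k ⟶ Spec R := fun k => pullback.fst _ _ ≫ gA k.1 ≫ (⊤ : (Spec R).Opens).ι
  haveI : ∀ k, IsAffine (a k) := fun k => inferInstanceAs (IsAffine (pullback _ _))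
  let T : κ₁ × κ₂ → Scheme.{u} := fun k => pullback (α k) q
  haveI : ∀ k, IsAffine (T k) := fun k => inferInstanceAs (IsAffine (pullback _ _))
  have hmap : ∀ k, Spec.map (Spec.preimage ((T k).isoSpec.inv ≫ pullback.snd (α k) q)) =
      (T k).isoSpec.inv ≫ pullback.snd (α k) q := fun k => Spec.map_preimage _
  refine ⟨{ κ := κ₁ × κ₂
            ring := fun k => Γ(T k, ⊤)
            map := fun k => Spec.preimage ((T k).isoSpec.inv ≫ pullback.snd (α k) q)
            flat := fun k => by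
              rw [hmap]
              haveI : Flat (α k) := inferInstance
              infer_instance
            surj := fun t => by
              obtain ⟨k₁, c₁, hc₁⟩ := hsA ⟨q t, trivial⟩
              obtain ⟨k₂, c₂, hc₂⟩ := hsA' ⟨q t, trivial⟩
              obtain ⟨z, hz, -⟩ := Scheme.Pullback.exists_preimage_pullback (f := gA k₁ ≫ (⊤ : (Spec R).Opens).ι)
                (g := gA' k₂ ≫ (⊤ : (Spec R).Opens).ι) c₁ c₂ (by
                  simp only [Scheme.Hom.comp_apply, hc₁, hc₂])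
              obtain ⟨w, -, hw⟩ := Scheme.Pullback.exists_preimage_pullback (f := α (k₁, k₂)) (g := q) z t (by
                simp only [α, Scheme.Hom.comp_apply]; erw [hz, hc₁]; rfl)
              refine ⟨(k₁, k₂), (T (k₁, k₂)).isoSpec.hom w, ?_⟩
              rw [hmap, ← Scheme.Hom.comp_apply, Iso.hom_inv_id_assoc, hw] }, fun k => ?_⟩
  obtain ⟨M, _, ⟨σ⟩⟩ := hσ k.1
  obtain ⟨M', _, ⟨σ'⟩⟩ := hσ' k.2
  refine ⟨M, inferInstance, M', inferInstance,
    ⟨σ.comp ((T k).isoSpec.inv ≫ pullback.fst (α k) q ≫ pullback.fst _ _) ?_⟩,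
    ⟨σ'.comp ((T k).isoSpec.inv ≫ pullback.fst (α k) q ≫ pullback.snd _ _) ?_⟩⟩
  · rw [hmap]; simp only [Category.assoc]
    rw [← pullback.condition (f := α k) (g := q)]
  · rw [hmap]; simp only [Category.assoc]
    rw [← pullback.condition (f := α k) (g := q), ← pullback.condition]

end Groth.Agent.RigidMult
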